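import Mathlib

/-!
# The degree of `k(s) / k(s^p)` for algebraically independent `s` (helper2)
-/

set_option autoImplicit false
set_option backward.isDefEq.respectTransparency.types false
set_option synthInstance.maxHeartbeats 400000
set_option maxHeartbeats 4000000
set_option linter.style.haveILetI false
set_option linter.unusedSectionVars false
set_option linter.unusedVariables false

universe u
open IntermediateField

namespace Groth.Agent.Helper2.RelFrobDeg

section Step

variable {N K : Type*} [Field N] [Field K] [Algebra N K]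

/-- `[N(t) : N(t^n)] = n` for `t` transcendental -/
theorem relfinrank_adjoin_simple_pow (t : K) (ht : Transcendental N t) (n : ℕ) (hn : 0 < n) :
    IntermediateField.relfinrank (N⟮t ^ n⟯) (N⟮t⟯) = n := by
  let e := RatFunc.algEquivOfTranscendental t ht
  let f : RatFunc N →ₐ[N] K := (N⟮t⟯).val.comp e.toAlgHom
  have hfX : f RatFunc.X = t := by
    change ((e RatFunc.X : N⟮t⟯) : K) = t
    rw [RatFunc.algEquivOfTranscendental_X]
  have h1 := IntermediateField.relfinrank_map_map
    (A := N⟮(RatFunc.X : RatFunc N) ^ n⟯) (B := ⊤) f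
  have hA : (N⟮(RatFunc.X : RatFunc N) ^ n⟯).map f = N⟮t ^ n⟯ := by
    rw [IntermediateField.adjoin_map, Set.image_singleton, map_pow, hfX]
  have hB : (⊤ : IntermediateField N (RatFunc N)).map f = N⟮t⟯ := by
    rw [← AlgHom.fieldRange_eq_map]
    apply le_antisymm
    · rintro x ⟨y, rfl⟩
      exact (e y).2
    · intro x hx
      refine ⟨e.symm ⟨x, hx⟩, ?_⟩
      change ((e (e.symm ⟨x, hx⟩) : N⟮t⟯) : K) = x
      rw [AlgEquiv.apply_symm_apply]
  rw [hA, hB, IntermediateField.relfinrank_top_right] at h1
  rw [h1, RatFunc.finrank_eq_max_natDegree]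
  have h2 : ((RatFunc.X : RatFunc N) ^ n) =
      algebraMap (Polynomial N) (RatFunc N) (Polynomial.X ^ n) := by
    rw [map_pow, RatFunc.algebraMap_X]
  rw [h2, RatFunc.num_algebraMap, RatFunc.denom_algebraMap, Polynomial.natDegree_X_pow,
    Polynomial.natDegree_one]
  exact max_eq_left (Nat.zero_le n)

end Step

section Chain

variable {k K : Type u} [Field k] [Field K] [Algebra k K] {ι : Type*} [DecidableEq ι]
  (s : ι → K) (p : ℕ)

/-- the family `s` with the members in `J` raised to the `p`-th power -/
def upow (J : Finset ι) (i : ι) : K := if i ∈ J then s i ^ p else s i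

theorem transcendental_of_le {N N' : IntermediateField k K} (h : N ≤ N') (t : K)
    (ht : Transcendental N' t) : Transcendental N t := by
  intro hal
  apply ht
  letI : Algebra N N' := (IntermediateField.inclusion h).toRingHom.toAlgebra
  haveI : IsScalarTower N N' K := IsScalarTower.of_algebraMap_eq (fun _ => rfl)
  exact hal.tower_top N'

theorem chain_step (hs : AlgebraicIndependent k s) (hp : 0 < p) (J : Finset ι) (j : ι)
    (hj : j ∉ J) :
    adjoin k (Set.range (upow s p (insert j J))) ≤ adjoin k (Set.range (upow s p J)) ∧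
    (adjoin k (Set.range (upow s p (insert j J)))).relfinrank
      (adjoin k (Set.range (upow s p J))) = p := by
  let S₀ : Set K := upow s p J '' {j}ᶜ
  let N : IntermediateField k K := adjoin k S₀
  have hJj : upow s p J j = s j := if_neg hj
  have hJj' : upow s p (insert j J) j = s j ^ p := if_pos (Finset.mem_insert_self j J)
  have hoff : ∀ i, i ≠ j → upow s p (insert j J) i = upow s p J i := by
    intro i hi
    unfold upow
    by_cases hiJ : i ∈ J
    · rw [if_pos hiJ, if_pos (Finset.mem_insert_of_mem hiJ)]
    · rw [if_neg hiJ, if_neg (fun h => by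
        rcases Finset.mem_insert.mp h with h | h
        · exact hi h
        · exact hiJ h)]
  have hr1 : Set.range (upow s p J) = S₀ ∪ {s j} := by
    ext x
    constructor
    · rintro ⟨i, rfl⟩
      by_cases hi : i = j
      · right; rw [hi, hJj]; rfl
      · left; exact ⟨i, hi, rfl⟩
    · rintro (⟨i, _, rfl⟩ | hx)
      · exact ⟨i, rfl⟩
      · exact ⟨j, by rw [hJj]; exact hx.symm⟩
  have hr2 : Set.range (upow s p (insert j J)) = S₀ ∪ {s j ^ p} := by
    ext x
    constructor
    · rintro ⟨i, rfl⟩
      by_cases hi : i = j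
      · right; rw [hi, hJj']; rfl
      · left; exact ⟨i, hi, (hoff i hi).symm⟩
    · rintro (⟨i, hi, rfl⟩ | hx)
      · exact ⟨i, hoff i hi⟩
      · exact ⟨j, by rw [hJj']; exact hx.symm⟩
  have h1 : adjoin k (Set.range (upow s p J)) = (N⟮s j⟯).restrictScalars k := by
    rw [adjoin_adjoin_left, hr1]
  have h2 : adjoin k (Set.range (upow s p (insert j J))) = (N⟮s j ^ p⟯).restrictScalars k := by
    rw [adjoin_adjoin_left, hr2]
  have ht : Transcendental N (s j) := by
    have hle : N ≤ adjoin k (s '' {j}ᶜ) := by
      rw [adjoin_le_iff]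
      rintro x ⟨i, hi, rfl⟩
      have hmem : s i ∈ adjoin k (s '' {j}ᶜ) := subset_adjoin k _ ⟨i, hi, rfl⟩
      unfold upow
      split_ifs
      · exact pow_mem hmem p
      · exact hmem
    refine transcendental_of_le hle (s j) ?_
    rw [IntermediateField.transcendental_adjoin_iff]
    exact hs.transcendental_adjoin (s := {j}ᶜ) (i := j) (by simp)
  rw [h1, h2]
  refine ⟨?_, relfinrank_adjoin_simple_pow (s j) ht p hp⟩
  intro x hx
  have hle : N⟮s j ^ p⟯ ≤ N⟮s j⟯ := by
    rw [adjoin_le_iff]
    rintro x (rfl : x = s j ^ p)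
    exact pow_mem (mem_adjoin_simple_self N (s j)) p
  exact hle hx

theorem chain (hs : AlgebraicIndependent k s) (hp : 0 < p) (J : Finset ι) :
    adjoin k (Set.range (upow s p J)) ≤ adjoin k (Set.range (upow s p ∅)) ∧
    (adjoin k (Set.range (upow s p J))).relfinrank (adjoin k (Set.range (upow s p ∅))) =
      p ^ J.card := by
  induction J using Finset.induction_on with
  | empty => exact ⟨le_rfl, by rw [relfinrank_self, Finset.card_empty, pow_zero]⟩
  | insert j J hj ih =>
    obtain ⟨hle1, hstep⟩ := chain_step s p hs hp J j hj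
    obtain ⟨hle2, ih2⟩ := ih
    refine ⟨hle1.trans hle2, ?_⟩
    rw [← IntermediateField.relfinrank_mul_relfinrank hle1 hle2, hstep, ih2,
      Finset.card_insert_of_notMem hj, pow_succ, mul_comm]

theorem relfinrank_adjoin_pow [Fintype ι] (hs : AlgebraicIndependent k s) (hp : 0 < p) :
    (adjoin k (Set.range fun i => s i ^ p)).relfinrank (adjoin k (Set.range s)) =
      p ^ Fintype.card ι := by
  have h := (chain s p hs hp Finset.univ).2
  have h1 : upow s p Finset.univ = fun i => s i ^ p := by
    funext i
    exact if_pos (Finset.mem_univ i)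
  have h2 : upow s p ∅ = s := by
    funext i
    exact if_neg (Finset.notMem_empty i)
  rw [h1, h2, Finset.card_univ] at h
  exact h

end Chain

end Groth.Agent.Helper2.RelFrobDeg
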