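import Mathlib
import Groth.Agent.Lib.Helper2.RelFrobDeg.Chain

/-!
# `[K : k K^p] = p^d` for a separably generated extension of transcendence degree `d` (helper2)
-/

set_option autoImplicit false
set_option backward.isDefEq.respectTransparency.types false
set_option synthInstance.maxHeartbeats 400000
set_option maxHeartbeats 4000000
set_option linter.style.haveILetI false
set_option linter.unusedSectionVars false
set_option linter.unusedVariables false

universe u
open IntermediateField

namespace Groth.Agent.Helper2.RelFrobDeg

section PC

variable {k K : Type u} [Field k] [Field K] [Algebra k K] (p : ℕ) [hp : Fact p.Prime] [CharP K p]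

/-- the compositum `k · M^p` -/
noncomputable def pc (M : IntermediateField k K) : IntermediateField k K :=
  adjoin k ((fun x : K => x ^ p) '' (M : Set K))

omit hp [CharP K p] in
theorem pow_mem_pc (M : IntermediateField k K) {x : K} (hx : x ∈ M) : x ^ p ∈ pc p M :=
  subset_adjoin k _ ⟨x, hx, rfl⟩

omit hp [CharP K p] in
theorem pc_le (M : IntermediateField k K) : pc p M ≤ M := by
  unfold pc
  rw [adjoin_le_iff]
  rintro _ ⟨x, hx, rfl⟩
  exact pow_mem hx p

omit hp [CharP K p] in
theorem pc_mono {M M' : IntermediateField k K} (h : M ≤ M') : pc p M ≤ pc p M' := by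
  unfold pc
  exact IntermediateField.adjoin.mono k _ _ (Set.image_mono h)

/-- the intermediate field of elements whose `p`-th power lies in `M` -/
noncomputable def rootField (M : IntermediateField k K) : IntermediateField k K :=
  Subfield.toIntermediateField (M.toSubfield.comap (frobenius K p)) (by
    intro c
    change frobenius K p (algebraMap k K c) ∈ M
    rw [frobenius_def, ← map_pow]
    exact M.algebraMap_mem _)

theorem mem_rootField (M : IntermediateField k K) (x : K) : x ∈ rootField p M ↔ x ^ p ∈ M :=
  Iff.rfl

theorem pc_adjoin_range {ι : Type*} (s : ι → K) :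
    pc p (adjoin k (Set.range s)) = adjoin k (Set.range fun i => s i ^ p) := by
  apply le_antisymm
  · have h1 : adjoin k (Set.range s) ≤ rootField p (adjoin k (Set.range fun i => s i ^ p)) := by
      rw [adjoin_le_iff]
      rintro _ ⟨i, rfl⟩
      exact subset_adjoin k _ ⟨i, rfl⟩
    unfold pc
    rw [adjoin_le_iff]
    rintro _ ⟨x, hx, rfl⟩
    exact h1 hx
  · rw [adjoin_le_iff]
    rintro _ ⟨i, rfl⟩
    exact pow_mem_pc p _ (subset_adjoin k _ ⟨i, rfl⟩)

/-- a finite separable extension does not change the relative Frobenius degree -/
theorem relfinrank_pc_eq (E : IntermediateField k K) [FiniteDimensional E K]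
    [Algebra.IsSeparable E K] :
    (pc p (⊤ : IntermediateField k K)).relfinrank ⊤ = (pc p E).relfinrank E := by
  have hp' : p.Prime := hp.out
  haveI : ExpChar K p := ExpChar.prime hp'
  haveI : ExpChar E p := (algebraMap E K).expChar (algebraMap E K).injective p
  set n := Module.finrank E K with hn
  have hnpos : 0 < n := Module.finrank_pos
  set E1 := pc p E with hE1
  set L := pc p (⊤ : IntermediateField k K) with hL
  have hE1E : E1 ≤ E := pc_le p E
  have hE1L : E1 ≤ L := pc_mono p le_top
  have eq1 := IntermediateField.relfinrank_mul_relfinrank hE1E (le_top : E ≤ ⊤)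
  have eq2 := IntermediateField.relfinrank_mul_relfinrank hE1L (le_top : L ≤ ⊤)
  have hEtop : E.relfinrank ⊤ = n := IntermediateField.relfinrank_top_right E
  -- the key: `[L : E1] = n`
  have key : E1.relfinrank L = n := by
    rw [IntermediateField.relfinrank_eq_finrank_of_le hE1L]
    letI algE1E : Algebra E1 E := (IntermediateField.inclusion hE1E).toRingHom.toAlgebra
    haveI tower : IsScalarTower E1 E K := IsScalarTower.of_algebraMap_eq (fun _ => rfl)
    let b := Module.finBasis E K
    let b' : Fin n → K := fun i => b i ^ p
    have hli : LinearIndependent E b' := by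
      have h := b.linearIndependent.map_pow_expChar_pow_of_isSeparable p 1
      simpa only [pow_one] using h
    have hsp : Submodule.span E (Set.range b') = ⊤ := by
      have h := Field.span_map_pow_expChar_pow_eq_top_of_isSeparable p 1 b.span_eq
      simpa only [pow_one] using h
    have hinj : Function.Injective fun r : E1 => r • (1 : E) := by
      intro x y hxy
      have h1 : (algebraMap E1 E x) = algebraMap E1 E y := by
        simpa [Algebra.smul_def] using hxy
      exact (algebraMap E1 E).injective h1
    have hli1 : LinearIndependent E1 b' := hli.restrict_scalars hinj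
    have hcard : Module.finrank E1 (Submodule.span E1 (Set.range b')) = n := by
      rw [finrank_span_eq_card hli1, Fintype.card_fin]
    -- every `p`-th power lies in the span
    have hpow : ∀ x : K, x ^ p ∈ Submodule.span E1 (Set.range b') := by
      intro x
      have hx : x = ∑ i, b.repr x i • b i := (b.sum_repr x).symm
      have hx' : x ^ p = ∑ i, (b.repr x i • b i) ^ p := by
        conv_lhs => rw [hx]
        exact sum_pow_char (R := K) p _ _
      rw [hx']
      refine Submodule.sum_mem _ fun i _ => ?_
      have h2 : (b.repr x i • b i) ^ p =
          (⟨((b.repr x i : E) : K) ^ p, pow_mem_pc p E (b.repr x i).2⟩ : E1) • b' i := by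
        rw [Algebra.smul_def, mul_pow]
        rfl
      rw [h2]
      exact Submodule.smul_mem _ _ (Submodule.subset_span ⟨i, rfl⟩)
    -- the subalgebra generated by `p`-th powers
    let B : Subalgebra E1 K := Algebra.adjoin E1 (Set.range fun x : K => x ^ p)
    have hB : Subalgebra.toSubmodule B = Submodule.span E1 (Set.range b') := by
      have h1 : Submonoid.closure (Set.range fun x : K => x ^ p) =
          MonoidHom.mrange (powMonoidHom (α := K) p) := by
        have := (MonoidHom.mrange (powMonoidHom (α := K) p)).closure_eq
        rw [← this]
        rfl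
      rw [Algebra.adjoin_eq_span, h1]
      apply le_antisymm
      · rw [Submodule.span_le]
        rintro _ ⟨x, rfl⟩
        exact hpow x
      · apply Submodule.span_mono
        rintro _ ⟨i, rfl⟩
        exact ⟨b i, rfl⟩
    -- `K` is algebraic over `E1`
    haveI : Algebra.IsAlgebraic E1 E := by
      refine ⟨fun e => IsIntegral.isAlgebraic ?_⟩
      refine ⟨Polynomial.X ^ p - Polynomial.C (⟨(e : K) ^ p, pow_mem_pc p E e.2⟩ : E1),
        Polynomial.monic_X_pow_sub_C _ hp'.ne_zero, ?_⟩
      rw [Polynomial.eval₂_sub, Polynomial.eval₂_pow, Polynomial.eval₂_X, Polynomial.eval₂_C]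
      apply Subtype.ext
      change (e : K) ^ p - (e : K) ^ p = 0
      exact sub_self _
    haveI : Algebra.IsAlgebraic E K := Algebra.IsAlgebraic.of_finite E K
    haveI : Algebra.IsAlgebraic E1 K := Algebra.IsAlgebraic.trans E1 E K
    have hBfield : IsField B := Subalgebra.isField_of_algebraic B
    let M' : IntermediateField E1 K := Subalgebra.toIntermediateField' B hBfield
    have hLM : L ≤ M'.restrictScalars k := by
      rw [hL]
      unfold pc
      rw [adjoin_le_iff]
      rintro _ ⟨x, _, rfl⟩
      exact Algebra.subset_adjoin ⟨x, rfl⟩
    -- comparison of submodules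
    have hWV : Subalgebra.toSubmodule (IntermediateField.extendScalars hE1L).toSubalgebra =
        Submodule.span E1 (Set.range b') := by
      apply le_antisymm
      · intro x hx
        have h1 : x ∈ B := hLM hx
        rw [← hB]
        exact h1
      · rw [Submodule.span_le]
        rintro _ ⟨i, rfl⟩
        exact pow_mem_pc p ⊤ (IntermediateField.mem_top)
    have hfr : Module.finrank E1 (IntermediateField.extendScalars hE1L) =
        Module.finrank E1 (Subalgebra.toSubmodule
          (IntermediateField.extendScalars hE1L).toSubalgebra) := rfl
    rw [hfr, hWV, hcard]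
  rw [hEtop] at eq1
  rw [key] at eq2
  have h3 : n * (pc p E).relfinrank E = n * L.relfinrank ⊤ := by
    rw [mul_comm, eq1, ← eq2]
  exact (Nat.eq_of_mul_eq_mul_left hnpos h3).symm

/-- the relative Frobenius degree of a separably generated extension -/
theorem finrank_pc_top [Algebra.EssFiniteType k K] (s : Set K) [Finite s]
    (hs : IsTranscendenceBasis k ((↑) : s → K)) [Algebra.IsSeparable (adjoin k s) K] :
    Module.finrank (pc p (⊤ : IntermediateField k K)) K = p ^ Nat.card s := by
  classical
  letI : Fintype s := Fintype.ofFinite s
  haveI : Algebra.EssFiniteType (adjoin k s) K := Algebra.EssFiniteType.of_comp k (adjoin k s) K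
  haveI : Algebra.IsAlgebraic (adjoin k s) K := inferInstance
  haveI : Module.Finite (adjoin k s) K := Algebra.finite_of_essFiniteType_of_isAlgebraic
  rw [← IntermediateField.relfinrank_top_right, relfinrank_pc_eq p (adjoin k s)]
  have h1 : adjoin k s = adjoin k (Set.range ((↑) : s → K)) := by
    rw [Subtype.range_coe]
  rw [h1, pc_adjoin_range, relfinrank_adjoin_pow _ p hs.1 hp.out.pos, Nat.card_eq_fintype_card]

end PC

end Groth.Agent.Helper2.RelFrobDeg
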