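import Mathlib
import Groth.Agent.Lib.Helper2.RelFrobDeg.Sep
import Groth.Agent.Lib.Helper2.FixFrob.Main

/-!
# MacLane's criterion from reducedness of the Frobenius twist, and the degree of the relative
Frobenius of a function field (helper2)
-/

set_option autoImplicit false
set_option backward.isDefEq.respectTransparency.types false
set_option synthInstance.maxHeartbeats 400000
set_option maxHeartbeats 4000000
set_option linter.style.haveILetI false
set_option linter.unusedSectionVars false
set_option linter.unusedVariables false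

universe u
open IntermediateField CategoryTheory CategoryTheory.Limits
open scoped TensorProduct

namespace Groth.Agent.Helper2.RelFrobDeg

/-- a copy of `k`, viewed as a `k`-algebra through the Frobenius -/
def FT (k : Type u) (p : ℕ) : Type u := k

noncomputable instance (k : Type u) [Field k] (p : ℕ) : Field (FT k p) := inferInstanceAs (Field k)

noncomputable instance (k : Type u) [Field k] (p : ℕ) [Fact p.Prime] [CharP k p] :
    Algebra k (FT k p) := (frobenius k p).toAlgebra

section MacLaneA

variable {k : Type u} [Field k] (p : ℕ) [hp : Fact p.Prime] [CharP k p]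
  {A A' : CommRingCat.{u}} (α : CommRingCat.of k ⟶ A) (ι₁ : A ⟶ A') (ι₂ : CommRingCat.of k ⟶ A')
  (hpo : IsPushout α (CommRingCat.ofHom (frobenius k p)) ι₁ ι₂)

include hpo in
/-- MacLane's criterion in `A`, from reducedness of the Frobenius twist `A'` -/
theorem macLane_of_isPushout [IsReduced A'] {ι : Type u} [Fintype ι] (a : ι → A)
    (hli : letI := α.hom.toAlgebra; LinearIndependent k a) :
    letI := α.hom.toAlgebra; LinearIndependent k (fun i => a i ^ p) := by
  classical
  letI algA : Algebra k A := α.hom.toAlgebra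
  have hp' : p.Prime := hp.out
  rw [Fintype.linearIndependent_iff]
  intro c hc
  -- the element `z`
  let z : A' := ∑ i, ι₂.hom (c i) * ι₁.hom (a i)
  have hcomm : ∀ x : k, ι₁.hom (α.hom x) = ι₂.hom (x ^ p) := by
    intro x
    have h1 := congrArg (fun t => t.hom x) hpo.w
    exact h1
  have hz : z = 0 := by
    rcases subsingleton_or_nontrivial A' with hsub | hnt
    · exact Subsingleton.elim _ _
    · haveI : CharP A' p := charP_of_injective_ringHom ι₂.hom.injective p
      apply IsReduced.eq_zero
      refine ⟨p, ?_⟩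
      have h1 : z ^ p = ∑ i, (ι₂.hom (c i) * ι₁.hom (a i)) ^ p := sum_pow_char (R := A') p _ _
      rw [h1]
      have h2 : ∀ i, (ι₂.hom (c i) * ι₁.hom (a i)) ^ p = ι₁.hom (c i • a i ^ p) := by
        intro i
        rw [mul_pow, ← map_pow, ← hcomm, ← map_pow, ← map_mul, Algebra.smul_def]
        rfl
      simp only [h2]
      rw [← map_sum, hc, map_zero]
  -- the tensor product
  have tp := CommRingCat.isPushout_tensorProduct k (FT k p) A
  have hpo' : IsPushout (CommRingCat.ofHom (algebraMap k (FT k p)))
      (CommRingCat.ofHom (algebraMap k A)) ι₂ ι₁ := hpo.flip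
  let iso := tp.isoIsPushout _ _ hpo'
  have e1 : ∀ x : FT k p, iso.hom (x ⊗ₜ[k] (1 : A)) = ι₂.hom x := fun x =>
    congr($(tp.inl_isoIsPushout_hom _ _ hpo') x)
  have e2 : ∀ y : A, iso.hom ((1 : FT k p) ⊗ₜ[k] y) = ι₁.hom y := fun y =>
    congr($(tp.inr_isoIsPushout_hom _ _ hpo') y)
  have e3 : ∀ (x : FT k p) (y : A), iso.hom (x ⊗ₜ[k] y) = ι₂.hom x * ι₁.hom y := by
    intro x y
    have h3 : x ⊗ₜ[k] y = (x ⊗ₜ[k] (1 : A)) * ((1 : FT k p) ⊗ₜ[k] y) := by
      rw [Algebra.TensorProduct.tmul_mul_tmul, mul_one, one_mul]
    rw [h3, map_mul, e1, e2]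
  have hinj : Function.Injective iso.hom := by
    intro x y hxy
    have := congrArg iso.inv hxy
    simpa using this
  let c' : ι → FT k p := c
  have hsum : ∑ i, c' i • ((1 : FT k p) ⊗ₜ[k] a i) = 0 := by
    apply hinj
    rw [map_zero, map_sum]
    have h4 : ∀ i, iso.hom (c' i • ((1 : FT k p) ⊗ₜ[k] a i)) =
        ι₂.hom (c i) * ι₁.hom (a i) := by
      intro i
      rw [TensorProduct.smul_tmul', smul_eq_mul, mul_one, e3]
    simp only [h4]
    exact hz
  have hli' : LinearIndependent (FT k p) (fun i => (1 : FT k p) ⊗ₜ[k] a i) :=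
    Module.Flat.linearIndependent_one_tmul (S := FT k p) hli
  exact Fintype.linearIndependent_iff.mp hli' c' hsum

end MacLaneA

section Clear

variable {k A K : Type u} [Field k] [CommRing A] [IsDomain A] [Field K] [Algebra k A] [Algebra A K]
  [Algebra k K] [IsScalarTower k A K] [IsFractionRing A K] (p : ℕ)

/-- MacLane's criterion passes to the fraction field -/
theorem macLane_fractionRing
    (H : ∀ {ι : Type u} [Fintype ι] (a : ι → A), LinearIndependent k a →
      LinearIndependent k (fun i => a i ^ p))
    (s : Finset K) (hs : LinearIndepOn k id (s : Set K)) :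
    LinearIndepOn k (fun x : K => x ^ p) (s : Set K) := by
  classical
  obtain ⟨b, hb⟩ := IsLocalization.exist_integer_multiples_of_finset (nonZeroDivisors A) s
  have hb0 : algebraMap A K (b : A) ≠ 0 :=
    IsFractionRing.to_map_ne_zero_of_mem_nonZeroDivisors b.2
  have hex : ∀ x : (s : Set K), ∃ a : A, algebraMap A K a = (b : A) • (x : K) :=
    fun x => hb x.1 x.2
  choose a ha using hex
  have ha' : ∀ x : (s : Set K), algebraMap A K (a x) = algebraMap A K (b : A) * (x : K) := by
    intro x
    rw [ha x, Algebra.smul_def]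
  have hlia : LinearIndependent k a := by
    rw [Fintype.linearIndependent_iff]
    intro c hc
    have h1 := congrArg (algebraMap A K) hc
    rw [map_sum, map_zero] at h1
    have h2 : ∀ x : (s : Set K), algebraMap A K (c x • a x) =
        algebraMap A K (b : A) * (c x • (x : K)) := by
      intro x
      rw [Algebra.smul_def, map_mul, ha', ← IsScalarTower.algebraMap_apply, Algebra.smul_def]
      ring
    simp only [h2] at h1
    rw [← Finset.mul_sum] at h1
    have h3 : ∑ x : (s : Set K), c x • (x : K) = 0 := by
      rcases mul_eq_zero.mp h1 with h | h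
      · exact absurd h hb0
      · exact h
    rw [LinearIndepOn, Fintype.linearIndependent_iff] at hs
    exact hs c h3
  have hlip := H a hlia
  rw [LinearIndepOn, Fintype.linearIndependent_iff]
  intro c hc
  rw [Fintype.linearIndependent_iff] at hlip
  apply hlip c
  apply IsFractionRing.injective A K
  rw [map_sum, map_zero]
  have h2 : ∀ x : (s : Set K), algebraMap A K (c x • a x ^ p) =
      algebraMap A K (b : A) ^ p * (c x • (x : K) ^ p) := by
    intro x
    rw [Algebra.smul_def, map_mul, map_pow, ha', ← IsScalarTower.algebraMap_apply,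
      Algebra.smul_def, mul_pow]
    ring
  simp only [h2]
  rw [← Finset.mul_sum, hc, mul_zero]

end Clear

section FinsetVersion

variable {k K : Type u} [Field k] [Field K] [Algebra k K] (p : ℕ) [hp : Fact p.Prime] [CharP K p]

theorem finrank_pc_top_finset [Algebra.EssFiniteType k K] (s : Finset K)
    (hs : IsTranscendenceBasis k ((↑) : s → K)) [Algebra.IsSeparable (adjoin k (s : Set K)) K] :
    Module.finrank (pc p (⊤ : IntermediateField k K)) K = p ^ s.card := by
  classical
  haveI : Algebra.EssFiniteType (adjoin k (s : Set K)) K :=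
    Algebra.EssFiniteType.of_comp k (adjoin k (s : Set K)) K
  haveI : Algebra.IsAlgebraic (adjoin k (s : Set K)) K := inferInstance
  haveI : Module.Finite (adjoin k (s : Set K)) K := Algebra.finite_of_essFiniteType_of_isAlgebraic
  rw [← IntermediateField.relfinrank_top_right, relfinrank_pc_eq p (adjoin k (s : Set K))]
  have h1 : adjoin k (s : Set K) = adjoin k (Set.range ((↑) : s → K)) := by
    congr 1
    ext x
    simp
  rw [h1, pc_adjoin_range, relfinrank_adjoin_pow _ p hs.1 hp.out.pos, Fintype.card_coe]

end FinsetVersion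

section Main

variable {k : Type u} [Field k] (p : ℕ) [hp : Fact p.Prime] [CharP k p]
  {A A' : CommRingCat.{u}} (α : CommRingCat.of k ⟶ A) (ι₁ : A ⟶ A') (ι₂ : CommRingCat.of k ⟶ A')
  (hpo : IsPushout α (CommRingCat.ofHom (frobenius k p)) ι₁ ι₂)
  {K K' : Type u} [Field K] [Field K'] [Algebra A K] [IsFractionRing A K] [Algebra A' K']
  [IsFractionRing A' K'] [Algebra k K] [Algebra.EssFiniteType k K]
  (hkK : ∀ c : k, algebraMap k K c = algebraMap A K (α.hom c))
  (d : ℕ) (hd : Algebra.trdeg k K = d)
  (ψ : K' →+* K)
  (hψ1 : ∀ a : A, ψ (algebraMap A' K' (ι₁.hom a)) = algebraMap A K a ^ p)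
  (hψ2 : ∀ c : k, ψ (algebraMap A' K' (ι₂.hom c)) = algebraMap k K c)

include hpo hkK hd hψ1 hψ2 in
/-- the degree of the relative Frobenius on function fields -/
theorem alg_main : (letI := ψ.toAlgebra; Module.finrank K' K) = p ^ d := by
  classical
  have hp' : p.Prime := hp.out
  letI algA : Algebra k A := α.hom.toAlgebra
  haveI tower : IsScalarTower k A K := IsScalarTower.of_algebraMap_eq hkK
  haveI : IsDomain A := (IsFractionRing.injective A K).isDomain (algebraMap A K)
  haveI : IsDomain A' := (IsFractionRing.injective A' K').isDomain (algebraMap A' K')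
  haveI : IsReduced A' := inferInstance
  haveI : CharP K p := charP_of_injective_algebraMap (algebraMap k K).injective p
  haveI : ExpChar k p := .prime hp'
  -- MacLane
  have HA : ∀ {ι : Type u} [Fintype ι] (a : ι → A), LinearIndependent k a →
      LinearIndependent k (fun i => a i ^ p) :=
    fun a ha => macLane_of_isPushout p α ι₁ ι₂ hpo a ha
  have HK := macLane_fractionRing (k := k) (A := A) (K := K) p HA
  obtain ⟨s, hs, hsep⟩ :=
    exists_isTranscendenceBasis_and_isSeparable_of_linearIndepOn_pow_of_essFiniteType p hp' HK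
  have hcard : s.card = d := by
    have h1 := hs.cardinalMk_eq_trdeg
    rw [hd] at h1
    have h2 : Cardinal.mk s = s.card := by simp
    rw [h2] at h1
    exact_mod_cast h1
  have hfin := finrank_pc_top_finset p s hs
  rw [hcard] at hfin
  -- the range of `ψ`
  set L := pc p (⊤ : IntermediateField k K) with hL
  have hAL : ∀ a' : A', ψ (algebraMap A' K' a') ∈ L := by
    have hS : (L.toSubfield.toSubring.comap (ψ.comp (algebraMap A' K'))) = ⊤ := by
      apply Groth.Agent.Helper2.FixFrob.subring_eq_top_of_isPushout hpo
      · intro a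
        change ψ (algebraMap A' K' (ι₁.hom a)) ∈ L
        rw [hψ1]
        exact pow_mem_pc p ⊤ IntermediateField.mem_top
      · intro c
        change ψ (algebraMap A' K' (ι₂.hom c)) ∈ L
        rw [hψ2]
        exact L.algebraMap_mem c
    intro a'
    have : a' ∈ (L.toSubfield.toSubring.comap (ψ.comp (algebraMap A' K'))) := by
      rw [hS]; trivial
    exact this
  have hle1 : ψ.fieldRange ≤ L.toSubfield := by
    rintro _ ⟨x, rfl⟩
    obtain ⟨a', b', hb', rfl⟩ := IsFractionRing.div_surjective (A := A') x
    rw [map_div₀]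
    exact div_mem (hAL a') (hAL b')
  have hpowR : ∀ x : K, x ^ p ∈ ψ.fieldRange := by
    intro x
    obtain ⟨a, b, hb, rfl⟩ := IsFractionRing.div_surjective (A := A) x
    rw [div_pow, ← hψ1, ← hψ1]
    exact div_mem ⟨_, rfl⟩ ⟨_, rfl⟩
  have hle2 : L.toSubfield ≤ ψ.fieldRange := by
    let R' : IntermediateField k K := Subfield.toIntermediateField ψ.fieldRange (by
      intro c
      rw [← hψ2]
      exact ⟨_, rfl⟩)
    have h1 : L ≤ R' := by
      rw [hL]
      unfold pc
      rw [adjoin_le_iff]
      rintro _ ⟨x, _, rfl⟩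
      exact hpowR x
    intro x hx
    exact h1 hx
  have hRL : ψ.fieldRange = L.toSubfield := le_antisymm hle1 hle2
  -- degrees
  letI algψ : Algebra K' K := ψ.toAlgebra
  let i : K' ≃+* ψ.fieldRange := RingEquiv.ofBijective ψ.rangeRestrictField
    ⟨ψ.rangeRestrictField.injective, ψ.rangeRestrictField_bijective.2⟩
  have h1 : Module.finrank K' K = Module.finrank ψ.fieldRange K := by
    refine Algebra.finrank_eq_of_equiv_equiv i (RingEquiv.refl K) ?_
    ext x
    rfl
  rw [h1]
  have h2 : Module.finrank ψ.fieldRange K = Module.finrank L K := by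
    rw [hRL]
    rfl
  rw [h2, hfin]

end Main

end Groth.Agent.Helper2.RelFrobDeg
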