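import Mathlib
import Groth.Prelude.Def_Frob
import Groth.Agent.Lib.Helper2.RelFrobDeg.MacLane
import Groth.Agent.Lib.Lead.FrobDeg6
import Groth.Agent.Lib.Helper7.FrobUH
import Groth.Agent.Lib.Helper9.UnivHomeo
import Groth.Agent.Lib.Helper4.DimFT4

/-!
# The Frobenius twist of a geometrically reduced variety is integral and the relative Frobenius
has degree `p^d` (S14932) (helper2)
-/

set_option autoImplicit false
set_option backward.isDefEq.respectTransparency.types false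
set_option synthInstance.maxHeartbeats 400000
set_option maxHeartbeats 4000000
set_option linter.style.haveILetI false
set_option linter.unusedSectionVars false
set_option linter.unusedVariables false

universe u
open CategoryTheory CategoryTheory.Limits AlgebraicGeometry Opposite

namespace Groth.Agent.Helper2.RelFrobDeg

open Groth.Agent.Lead.FrobDeg Groth.Agent.Lib.Helper4.DimFT3 Groth.Agent.Lib.Helper4.DimFT4

attribute [local instance] Curv2.stalkAlgebra Curv2.resAlgebra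

section General

/-- the residue field map at a point, transported along an equality of points -/
theorem exists_ψ {X Y : Scheme.{u}} (R : X ⟶ Y) (x : X) (y : Y) (h : R x = y) (V : Y.Opens)
    (hy : y ∈ V) (hx : x ∈ R ⁻¹ᵁ V) :
    ∃ ψ : Y.residueField y →+* X.residueField x,
      (letI := ψ.toAlgebra; Module.finrank (Y.residueField y) (X.residueField x)) =
        R.residueDegree x ∧
      ∀ b : Γ(Y, V), ψ (Y.evaluation V y hy b) = X.evaluation (R ⁻¹ᵁ V) x hx (R.app V b) := by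
  subst h
  exact ⟨(R.residueFieldMap x).hom, rfl, fun b => Scheme.evaluation_naturality_apply R x hy b⟩

theorem evaluation_res {X : Scheme.{u}} {U W : X.Opens} (h : W ≤ U) (x : X) (hx : x ∈ W)
    (t : Γ(X, U)) :
    X.evaluation W x hx ((X.presheaf.map (homOfLE h).op).hom t) = X.evaluation U x (h hx) t := by
  simp only [Scheme.evaluation, CommRingCat.comp_apply]
  congr 1
  exact X.presheaf.germ_res_apply (homOfLE h) x hx t

theorem evaluation_appLE {X Y : Scheme.{u}} (g : X ⟶ Y) (U : Y.Opens) (W W' : X.Opens)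
    (h : W ≤ g ⁻¹ᵁ U) (h' : W' ≤ g ⁻¹ᵁ U) (x : X) (hx : x ∈ W) (hx' : x ∈ W') (t : Γ(Y, U)) :
    X.evaluation W x hx ((g.appLE U W h).hom t) = X.evaluation W' x hx' ((g.appLE U W' h').hom t) := by
  have h1 : ∀ (W : X.Opens) (h : W ≤ g ⁻¹ᵁ U) (hx : x ∈ W),
      X.evaluation W x hx ((g.appLE U W h).hom t) =
        X.evaluation (g ⁻¹ᵁ U) x (h hx) ((g.app U).hom t) := by
    intro W h hx
    exact evaluation_res h x hx _
  rw [h1 W h hx, h1 W' h' hx']

end General

section Main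

variable (k : Type u) [Field k] (p : ℕ) [hp : Fact p.Prime] [CharP k p]
  (X : Scheme.{u}) [X.Over (Spec (CommRingCat.of k))] [IsIntegral X]
  [LocallyOfFiniteType (X ↘ (Spec (CommRingCat.of k)))]
  [GeometricallyReduced (X ↘ (Spec (CommRingCat.of k)))]

local notation "𝕤" => (X ↘ (Spec (CommRingCat.of k)))
local notation "φ" => FrobSch.frob (Spec (CommRingCat.of k)) p

theorem isHomeomorph_twistFst : IsHomeomorph (pullback.fst 𝕤 φ) :=
  Groth.Agent.Helper9.UH.isHomeomorph_of_isUnivHomeo _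
    (MorphismProperty.pullback_fst _ _ (Groth.Agent.Helper7.FrobUH.isUnivHomeo_frob p _))

theorem isIntegral_frobTwist : IsIntegral (FrobSch.frobTwist 𝕤 p) := by
  haveI : Subsingleton (Spec (CommRingCat.of k)) :=
    inferInstanceAs (Subsingleton (PrimeSpectrum k))
  haveI : Flat 𝕤 := inferInstance
  haveI : IsReduced (FrobSch.frobTwist 𝕤 p) := inferInstance
  haveI : IrreducibleSpace (FrobSch.frobTwist 𝕤 p) := by
    let e : FrobSch.frobTwist 𝕤 p ≃ₜ X := (isHomeomorph_twistFst k p X).homeomorph _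
    have h1 : IsIrreducible (Set.univ : Set X) := IrreducibleSpace.isIrreducible_univ X
    have h2 := h1.image e.symm e.symm.continuous.continuousOn
    rw [Set.image_univ, e.symm.surjective.range_eq] at h2
    exact (irreducibleSpace_def _).mpr h2
  exact isIntegral_of_irreducibleSpace_of_isReduced _

theorem residueDegree_relFrob (d : ℕ) (hd : topologicalKrullDim X = d) :
    (FrobSch.relFrob 𝕤 p).residueDegree (genericPoint X) = p ^ d := by
  classical
  haveI hcharX : FrobSch.IsCharP X p := FrobSch.IsCharP.of_hom 𝕤 p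
  haveI hint : IsIntegral (FrobSch.frobTwist 𝕤 p) := isIntegral_frobTwist k p X
  let π : FrobSch.frobTwist 𝕤 p ⟶ X := pullback.fst 𝕤 φ
  let s' : FrobSch.frobTwist 𝕤 p ⟶ Spec (CommRingCat.of k) := pullback.snd 𝕤 φ
  let R : X ⟶ FrobSch.frobTwist 𝕤 p := FrobSch.relFrob 𝕤 p
  have hRπ : R ≫ π = FrobSch.frob X p := FrobSch.relFrob_fst 𝕤 p
  have hRs : R ≫ s' = 𝕤 := FrobSch.relFrob_snd 𝕤 p
  have hhomeo : IsHomeomorph π := isHomeomorph_twistFst k p X
  -- generic points
  have hπη : π (genericPoint (FrobSch.frobTwist 𝕤 p)) = genericPoint X := by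
    obtain ⟨a, ha⟩ := hhomeo.surjective (genericPoint X)
    have h1 : π (genericPoint (FrobSch.frobTwist 𝕤 p)) ⤳ genericPoint X :=
      ha ▸ (genericPoint_specializes a).map π.continuous
    exact (h1.antisymm (genericPoint_specializes _)).eq
  have hRη : R (genericPoint X) = genericPoint (FrobSch.frobTwist 𝕤 p) := by
    apply hhomeo.injective
    rw [hπη]
    have h1 : (R ≫ π) (genericPoint X) = genericPoint X := by rw [hRπ]; rfl
    exact h1
  -- affine opens
  obtain ⟨U, hU, hηU, -⟩ := exists_isAffineOpen_mem_and_subset (X := X) (x := genericPoint X)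
    (U := ⊤) trivial
  haveI : IsAffineHom π := MorphismProperty.pullback_fst (P := @IsAffineHom) 𝕤 φ inferInstance
  let V : (FrobSch.frobTwist 𝕤 p).Opens := π ⁻¹ᵁ U
  have hV : IsAffineOpen V := hU.preimage π
  have hηV : genericPoint (FrobSch.frobTwist 𝕤 p) ∈ V := by
    change π (genericPoint (FrobSch.frobTwist 𝕤 p)) ∈ U
    rw [hπη]
    exact hηU
  have hVY : V = π ⁻¹ᵁ U ⊓ s' ⁻¹ᵁ ⊤ := by simp [V]
  have hpb : IsPullback π s' 𝕤 φ := IsPullback.of_hasPullback _ _
  have hiso := isIso_pushoutSection_of_isAffineOpen hpb (US := ⊤) (UT := ⊤) (UX := U) le_top le_top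
    hVY (isAffineOpen_top _) (isAffineOpen_top _) hU
  have hpo₀ := (isIso_pushoutSection_iff hpb le_top le_top hVY).mp hiso
  -- the pushout square over `k`
  let e := Scheme.ΓSpecIso (CommRingCat.of k)
  have hUπ : V ≤ π ⁻¹ᵁ U := le_rfl
  have hVs : V ≤ s' ⁻¹ᵁ ⊤ := le_top
  let α : CommRingCat.of k ⟶ Γ(X, U) := e.inv ≫ Scheme.Hom.appLE 𝕤 ⊤ U le_top
  let ι₁ : Γ(X, U) ⟶ Γ(FrobSch.frobTwist 𝕤 p, V) := π.appLE U V hUπ
  let ι₂ : CommRingCat.of k ⟶ Γ(FrobSch.frobTwist 𝕤 p, V) := e.inv ≫ s'.appLE ⊤ V hVs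
  have hφapp : ∀ (h : (⊤ : (Spec (CommRingCat.of k)).Opens) ≤ φ ⁻¹ᵁ ⊤)
      (x : Γ(Spec (CommRingCat.of k), ⊤)), ((φ).appLE ⊤ ⊤ h).hom x = x ^ p := by
    intro h x
    have h1 : (φ).appLE ⊤ ⊤ h = (φ).app ⊤ := by
      rw [Scheme.Hom.app_eq_appLE]
      rfl
    rw [h1]
    rfl
  have hpo : IsPushout α (CommRingCat.ofHom (frobenius k p)) ι₁ ι₂ := by
    refine IsPushout.of_iso hpo₀ e (Iso.refl _) e (Iso.refl _) ?_ ?_ ?_ ?_
    · simp [α]
      rfl
    · ext x
      change e.hom.hom (((φ).appLE ⊤ ⊤ le_top).hom x) = (e.hom.hom x) ^ p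
      rw [hφapp, map_pow]
    · simp [ι₁]
    · simp [ι₂]
  -- fraction fields
  letI algAK : Algebra Γ(X, U) (X.residueField (genericPoint X)) :=
    (X.evaluation U (genericPoint X) hηU).hom.toAlgebra
  haveI fracX : IsFractionRing Γ(X, U) (X.residueField (genericPoint X)) :=
    isFractionRing_residueField U hU hηU
  letI algA'K' : Algebra Γ(FrobSch.frobTwist 𝕤 p, V)
      ((FrobSch.frobTwist 𝕤 p).residueField (genericPoint (FrobSch.frobTwist 𝕤 p))) :=
    ((FrobSch.frobTwist 𝕤 p).evaluation V (genericPoint (FrobSch.frobTwist 𝕤 p)) hηV).hom.toAlgebra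
  haveI fracY : IsFractionRing Γ(FrobSch.frobTwist 𝕤 p, V)
      ((FrobSch.frobTwist 𝕤 p).residueField (genericPoint (FrobSch.frobTwist 𝕤 p))) :=
    isFractionRing_residueField V hV hηV
  haveI := essFiniteType_residueField_genericPoint k X
  -- transcendence degree
  obtain ⟨n, hn1, hn2⟩ := exists_dim_affineOpen_eq_trdeg k X hU hηU
  have hn3 := S1619_main k X n hn1
  have hnd : n = d := by
    rw [hd] at hn3
    exact_mod_cast hn3.symm
  -- the residue field map
  have hxR : genericPoint X ∈ R ⁻¹ᵁ V := by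
    change R (genericPoint X) ∈ V
    rw [hRη]
    exact hηV
  obtain ⟨ψ, hψdeg, hψ⟩ := exists_ψ R (genericPoint X)
    (genericPoint (FrobSch.frobTwist 𝕤 p)) hRη V hηV hxR
  have hkK : ∀ c : k, algebraMap k (X.residueField (genericPoint X)) c =
      algebraMap Γ(X, U) (X.residueField (genericPoint X)) (α.hom c) := by
    intro c
    change Curv2.resMap k X (genericPoint X) c =
      X.evaluation U (genericPoint X) hηU (secMap k X U c)
    simp only [Curv2.resMap, Curv2.stalkMap, secMap, RingHom.comp_apply, Scheme.evaluation,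
      CommRingCat.comp_apply]
    congr 1
    exact (X.presheaf.germ_res_apply (homOfLE (le_top : U ≤ ⊤)) (genericPoint X) hηU _).symm
  rw [← hψdeg]
  refine alg_main p α ι₁ ι₂ hpo (K := X.residueField (genericPoint X))
    (K' := (FrobSch.frobTwist 𝕤 p).residueField (genericPoint (FrobSch.frobTwist 𝕤 p)))
    hkK d (by rw [hn1, hnd]) ψ ?_ ?_
  · intro a
    change ψ ((FrobSch.frobTwist 𝕤 p).evaluation V (genericPoint (FrobSch.frobTwist 𝕤 p)) hηV
      (ι₁.hom a)) = (X.evaluation U (genericPoint X) hηU a) ^ p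
    rw [hψ]
    have hW : R ⁻¹ᵁ V ≤ (R ≫ π) ⁻¹ᵁ U := le_rfl
    have hW' : R ⁻¹ᵁ V ≤ (FrobSch.frob X p) ⁻¹ᵁ U := by rw [← hRπ]; exact hW
    have h1 : (R.app V).hom (ι₁.hom a) = ((FrobSch.frob X p).appLE U (R ⁻¹ᵁ V) hW').hom a := by
      have h2 : π.appLE U V hUπ ≫ R.appLE V (R ⁻¹ᵁ V) le_rfl = (R ≫ π).appLE U (R ⁻¹ᵁ V) hW :=
        Scheme.Hom.appLE_comp_appLE _ _ _ _ _ _ _
      have h3 : (R ≫ π).appLE U (R ⁻¹ᵁ V) hW = (FrobSch.frob X p).appLE U (R ⁻¹ᵁ V) hW' :=
        Groth.Agent.Helper2.FixFrob.appLE_congr_hom hRπ U _ hW hW'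
      rw [← h3, ← h2, Scheme.Hom.app_eq_appLE]
      rfl
    rw [h1]
    have h4 := evaluation_res (X := X) (U := (FrobSch.frob X p) ⁻¹ᵁ U) (W := R ⁻¹ᵁ V) hW'
      (genericPoint X) hxR (((FrobSch.frob X p).app U).hom a)
    refine h4.trans ?_
    change X.evaluation U (genericPoint X) hηU (a ^ p) = _
    rw [map_pow]
  · intro c
    change ψ ((FrobSch.frobTwist 𝕤 p).evaluation V (genericPoint (FrobSch.frobTwist 𝕤 p)) hηV
      (ι₂.hom c)) = _
    rw [hψ, hkK c]
    have hW : R ⁻¹ᵁ V ≤ (R ≫ s') ⁻¹ᵁ ⊤ := le_top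
    have hW' : R ⁻¹ᵁ V ≤ 𝕤 ⁻¹ᵁ ⊤ := le_top
    have h1 : (R.app V).hom (ι₂.hom c) = (Scheme.Hom.appLE 𝕤 ⊤ (R ⁻¹ᵁ V) hW').hom (e.inv.hom c) := by
      have h2 : s'.appLE ⊤ V hVs ≫ R.appLE V (R ⁻¹ᵁ V) le_rfl = (R ≫ s').appLE ⊤ (R ⁻¹ᵁ V) hW :=
        Scheme.Hom.appLE_comp_appLE _ _ _ _ _ _ _
      have h3 : (R ≫ s').appLE ⊤ (R ⁻¹ᵁ V) hW = Scheme.Hom.appLE 𝕤 ⊤ (R ⁻¹ᵁ V) hW' :=
        Groth.Agent.Helper2.FixFrob.appLE_congr_hom hRs ⊤ _ hW hW'
      rw [← h3, ← h2, Scheme.Hom.app_eq_appLE]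
      rfl
    rw [h1]
    exact evaluation_appLE 𝕤 ⊤ (R ⁻¹ᵁ V) U hW' le_top (genericPoint X) hxR hηU (e.inv.hom c)

theorem S14932_main (d : ℕ) (hd : topologicalKrullDim X = d) :
    IsIntegral (FrobSch.frobTwist 𝕤 p) ∧
      (FrobSch.relFrob 𝕤 p).residueDegree (genericPoint X) = p ^ d :=
  ⟨isIntegral_frobTwist k p X, residueDegree_relFrob k p X d hd⟩

end Main

end Groth.Agent.Helper2.RelFrobDeg
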